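import Mathlib
import Cfsg.Agent.Lib.Chars.Basic

/-!
A p-subgroup centralising an element and the divisibility of a character value, fixed points
on a torsor of a p-group under an element of order prime to p, and an alternating sum over subsets.
-/

set_option autoImplicit false

namespace Cfsg.Agent.Lib.ChevStValue

open Cfsg.Agent.Lib

/-- The trace of an endomorphism with `T ^ (n + 2) = T` is an algebraic integer. -/
theorem trace_isIntegral_of_pow_eq {V : Type*} [AddCommGroup V] [Module ℂ V] [FiniteDimensional ℂ V]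
    (T : Module.End ℂ V) {n : ℕ} (hT : T ^ (n + 2) = T) : IsIntegral ℤ (LinearMap.trace ℂ V T) := by
  rw [Module.End.trace_eq_sum_roots_charpoly_of_splits (IsAlgClosed.splits _)]
  refine IsIntegral.multiset_sum fun μ hμ => ?_
  have hev : Module.End.HasEigenvalue T μ :=
    (Module.End.hasEigenvalue_iff_isRoot_charpoly T μ).2 (Polynomial.isRoot_of_mem_roots hμ)
  obtain ⟨v, hv⟩ := hev.exists_hasEigenvector
  have h1 := hv.pow_apply (n + 2)
  rw [hT, hv.apply_eq_smul] at h1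
  have h2 : μ ^ (n + 2) = μ := by
    have h3 : (μ - μ ^ (n + 2)) • v = 0 := by rw [sub_smul, sub_eq_zero]; exact h1
    rcases smul_eq_zero.1 h3 with e | e
    · exact (sub_eq_zero.1 e).symm
    · exact absurd e hv.2
  refine ⟨Polynomial.X ^ (n + 2) - Polynomial.X, Polynomial.monic_X_pow_sub (by
    rw [Polynomial.degree_X]; exact_mod_cast Nat.succ_lt_succ n.succ_pos), ?_⟩
  simp [h2]

/-- A subgroup whose translates kill the character value divides it. -/
theorem dvd_char_of_vanish {G : Type*} [Group G] [Finite G] {V : Type*} [AddCommGroup V] [Module ℂ V]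
    [FiniteDimensional ℂ V] (ρ : Representation ℂ G V) (Q : Subgroup G) (g : G)
    (hc : ∀ x ∈ Q, Commute g x) (hv : ∀ x ∈ Q, x ≠ 1 → ρ.character (g * x) = 0) {z : ℤ}
    (hz : ρ.character g = (z : ℂ)) : (Nat.card ↥Q : ℤ) ∣ z := by
  classical
  haveI : Fintype ↥Q := Fintype.ofFinite _
  set S : Module.End ℂ V := ∑ x : ↥Q, ρ (x : G) with hS
  have hQ : (Nat.card ↥Q : ℂ) ≠ 0 := by exact_mod_cast Nat.card_pos.ne'
  have hSS : S * S = (Nat.card ↥Q : ℂ) • S := by
    have e : ∀ x : ↥Q, ρ (x : G) * S = S := fun x => by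
      rw [hS, Finset.mul_sum]
      refine Fintype.sum_equiv (Equiv.mulLeft x) _ _ fun y => ?_
      simp [← map_mul]
    calc S * S = ∑ x : ↥Q, ρ (x : G) * S := by rw [← Finset.sum_mul]
      _ = _ := by
        rw [Finset.sum_congr rfl fun x _ => e x, Finset.sum_const, Finset.card_univ, Nat.card_eq_fintype_card,
          ← Nat.cast_smul_eq_nsmul ℂ]
  set P : Module.End ℂ V := (Nat.card ↥Q : ℂ)⁻¹ • S with hP
  have hPP : IsIdempotentElem P := by
    show P * P = P
    rw [hP, smul_mul_smul_comm, hSS, smul_smul, mul_assoc, inv_mul_cancel₀ hQ, mul_one]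
  have hcom : Commute (ρ g) P := by
    refine Commute.smul_right (Commute.sum_right _ _ _ fun x _ => ?_) _
    show ρ g * ρ (x : G) = ρ (x : G) * ρ g
    rw [← map_mul, ← map_mul, (hc _ x.2).eq]
  obtain ⟨m, hm⟩ : ∃ m, orderOf g = m + 1 := ⟨orderOf g - 1, (Nat.succ_pred_eq_of_pos (orderOf_pos g)).symm⟩
  have hT : (ρ g * P) ^ (m + 2) = ρ g * P := by
    rw [hcom.mul_pow, hPP.pow_succ_eq, ← map_pow, pow_succ, ← hm, pow_orderOf_eq_one, one_mul]
  have hint := trace_isIntegral_of_pow_eq _ hT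
  have htr : LinearMap.trace ℂ V (ρ g * P) = (z : ℂ) / (Nat.card ↥Q : ℂ) := by
    rw [hP, mul_smul_comm, map_smul, hS, Finset.mul_sum, map_sum, smul_eq_mul,
      Finset.sum_eq_single_of_mem (1 : ↥Q) (Finset.mem_univ _)]
    · rw [Subgroup.coe_one, map_one, mul_one, ← hz, div_eq_inv_mul]
      rfl
    · intro x _ hx
      rw [← map_mul]
      exact hv _ x.2 fun e => hx (Subtype.ext e)
  rw [htr] at hint
  have h1 : IsIntegral ℤ ((z : ℚ) / (Nat.card ↥Q : ℚ)) := by
    refine (isIntegral_algebraMap_iff (R := ℤ) (A := ℚ) (B := ℂ) (algebraMap ℚ ℂ).injective).mp ?_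
    simpa using hint
  obtain ⟨a, ha⟩ := IsIntegrallyClosed.isIntegral_iff.mp h1
  refine ⟨a, ?_⟩
  have h2 : (z : ℚ) = (Nat.card ↥Q : ℚ) * a := by
    rw [show (a : ℚ) = (z : ℚ) / (Nat.card ↥Q : ℚ) from ha, mul_div_cancel₀]
    exact_mod_cast Nat.card_pos.ne'
  exact_mod_cast h2

/-- The orbit of a point under a subgroup. -/
def subOrbit {G X : Type*} [Group G] [MulAction G X] (U : Subgroup G) (x0 : X) : Set X :=
  {y | ∃ u ∈ U, u • x0 = y}

section Torsor

variable {G X : Type*} [Group G] [MulAction G X] {U : Subgroup G} {x0 : X}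

theorem card_fixed_of_point (hfree : ∀ u ∈ U, u • x0 = x0 → u = 1) {h : G}
    (hn : ∀ u ∈ U, h * u * h⁻¹ ∈ U) {y0 : X} (hy : y0 ∈ subOrbit U x0) (hfix : h • y0 = y0) :
    Nat.card {y : X // h • y = y ∧ y ∈ subOrbit U x0} =
      Nat.card ↥(U ⊓ Subgroup.centralizer ({h} : Set G)) := by
  have free' : ∀ u ∈ U, u • y0 = y0 → u = 1 := by
    obtain ⟨u0, hu0, rfl⟩ := hy
    intro u hu e
    have := hfree (u0⁻¹ * u * u0) (mul_mem (mul_mem (inv_mem hu0) hu) hu0)
      (by rw [mul_smul, mul_smul, e, inv_smul_smul])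
    calc u = u0 * (u0⁻¹ * u * u0) * u0⁻¹ := by group
      _ = 1 := by rw [this]; group
  have hcm : ∀ u : ↥(U ⊓ Subgroup.centralizer ({h} : Set G)), h * (u : G) = (u : G) * h := fun u =>
    Subgroup.mem_centralizer_iff.1 (Subgroup.mem_inf.1 u.2).2 h rfl
  let f : ↥(U ⊓ Subgroup.centralizer ({h} : Set G)) → {y : X // h • y = y ∧ y ∈ subOrbit U x0} := fun u =>
    ⟨(u : G) • y0, by rw [← mul_smul, hcm, mul_smul, hfix], by
      obtain ⟨u0, hu0, e⟩ := hy
      exact ⟨u * u0, mul_mem (Subgroup.mem_inf.1 u.2).1 hu0, by rw [mul_smul, e]⟩⟩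
  refine (Nat.card_congr (Equiv.ofBijective f ⟨fun u u' e => ?_, fun y => ?_⟩)).symm
  · have e' : (u : G) • y0 = (u' : G) • y0 := congrArg Subtype.val e
    exact Subtype.ext (inv_mul_eq_one.1 (free' _ (mul_mem (inv_mem (Subgroup.mem_inf.1 u'.2).1)
      (Subgroup.mem_inf.1 u.2).1) (by rw [mul_smul, e', inv_smul_smul]))).symm
  · obtain ⟨y, hy1, u, hu, e⟩ := y
    obtain ⟨u0, hu0, e0⟩ := hy
    have he : (u * u0⁻¹) • y0 = y := by rw [← e0, mul_smul, inv_smul_smul, e]
    have hm : u * u0⁻¹ ∈ U := mul_mem hu (inv_mem hu0)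
    refine ⟨⟨u * u0⁻¹, Subgroup.mem_inf.2 ⟨hm, Subgroup.mem_centralizer_iff.2 ?_⟩⟩, Subtype.ext he⟩
    intro a ha
    rw [Set.mem_singleton_iff] at ha
    subst ha
    have h1 : (a * (u * u0⁻¹) * a⁻¹) • y0 = y := by
      rw [mul_smul, mul_smul, show a⁻¹ • y0 = y0 from inv_smul_eq_iff.2 hfix.symm, he, hy1]
    have h2 := free' ((u * u0⁻¹)⁻¹ * (a * (u * u0⁻¹) * a⁻¹)) (mul_mem (inv_mem hm) (hn _ hm))
      (by rw [mul_smul, h1, inv_smul_eq_iff, he])
    rw [inv_mul_eq_one, eq_mul_inv_iff_mul_eq] at h2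
    exact h2.symm

/-- An element of order prime to `p` has fixed points on a torsor of a `p`-group. -/
theorem exists_fixed [Finite G] [Finite X] (p : ℕ) [Fact p.Prime] (hU : IsPGroup p ↥U)
    (hfree : ∀ u ∈ U, u • x0 = x0 → u = 1) : ∀ h : G, ¬ p ∣ orderOf h → (∀ u ∈ U, h * u * h⁻¹ ∈ U) →
      (∀ y ∈ subOrbit U x0, h • y ∈ subOrbit U x0) → ∃ y ∈ subOrbit U x0, h • y = y := by
  intro h
  induction hn : orderOf h using Nat.strong_induction_on generalizing h with
  | _ n ih =>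
    intro hp hnorm hpres
    subst hn
    have hp : ¬ p ∣ orderOf h := hp
    by_cases h1 : orderOf h = 1
    · exact ⟨x0, ⟨1, one_mem _, one_smul _ _⟩, by rw [orderOf_eq_one_iff.1 h1, one_smul]⟩
    set r := (orderOf h).minFac with hr
    haveI : Fact r.Prime := ⟨Nat.minFac_prime h1⟩
    have hrd : r ∣ orderOf h := Nat.minFac_dvd _
    have hor : orderOf (h ^ r) = orderOf h / r := orderOf_pow_of_dvd (Fact.out : r.Prime).ne_zero hrd
    have hlt : orderOf (h ^ r) < orderOf h := by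
      rw [hor]; exact Nat.div_lt_self (orderOf_pos h) (Fact.out : r.Prime).one_lt
    have hnormk : ∀ k : ℕ, ∀ u ∈ U, h ^ k * u * (h ^ k)⁻¹ ∈ U := by
      intro k
      induction k with
      | zero => intro u hu; simpa using hu
      | succ k ihk =>
        intro u hu
        have := hnorm _ (ihk u hu)
        convert this using 1
        rw [pow_succ']; group
    have hpresk : ∀ k : ℕ, ∀ y ∈ subOrbit U x0, h ^ k • y ∈ subOrbit U x0 := by
      intro k
      induction k with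
      | zero => intro y hy; simpa using hy
      | succ k ihk => intro y hy; rw [pow_succ', mul_smul]; exact hpres _ (ihk y hy)
    obtain ⟨y0, hy0, hfix0⟩ := ih _ hlt (h ^ r) rfl
      (fun hd => hp (hd.trans (hor ▸ Nat.div_dvd_of_dvd hrd))) (hnormk r) (hpresk r)
    have hcard := card_fixed_of_point hfree (hnormk r) hy0 hfix0
    let Z := {y : X // h ^ r • y = y ∧ y ∈ subOrbit U x0}
    haveI : Fintype Z := Fintype.ofFinite _
    obtain ⟨j, hj⟩ := IsPGroup.iff_card.1 (hU.to_le (inf_le_left : U ⊓ Subgroup.centralizer ({h ^ r} : Set G) ≤ U))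
    have hrZ : ¬ r ∣ Fintype.card Z := by
      rw [← Nat.card_eq_fintype_card, hcard, hj]
      intro hd
      have := (Nat.prime_dvd_prime_iff_eq Fact.out Fact.out).1 ((Fact.out : r.Prime).dvd_of_dvd_pow hd)
      exact hp (this ▸ hrd)
    have hcomm : ∀ y : X, h ^ r • h • y = h • h ^ r • y := fun y => by
      rw [← mul_smul, ← mul_smul, ← pow_succ, ← pow_succ']
    have hinv : ∀ y, ((h ^ r • (h • y) = h • y ∧ h • y ∈ subOrbit U x0) ↔
        (h ^ r • y = y ∧ y ∈ subOrbit U x0)) := by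
      intro y
      constructor
      · rintro ⟨e, hy⟩
        rw [hcomm] at e
        refine ⟨smul_left_cancel h e, ?_⟩
        have := hpresk (orderOf h - 1) _ hy
        rwa [← mul_smul, ← pow_succ, Nat.sub_add_cancel (orderOf_pos h), pow_orderOf_eq_one, one_smul] at this
      · rintro ⟨e, hy⟩
        exact ⟨by rw [hcomm, e], hpres _ hy⟩
    let σ : Equiv.Perm Z := (MulAction.toPerm h : Equiv.Perm X).subtypePerm hinv
    have hσ : ∀ (k : ℕ) (z : Z), ((σ ^ k) z).1 = h ^ k • z.1 := by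
      intro k
      induction k with
      | zero => intro z; simp
      | succ k ihk =>
        intro z
        rw [pow_succ', Equiv.Perm.mul_apply, pow_succ', mul_smul, ← ihk z]
        rfl
    have hσr : σ ^ r ^ 1 = 1 := by
      rw [pow_one]
      refine Equiv.ext fun z => Subtype.ext ?_
      rw [hσ]
      exact z.2.1
    obtain ⟨z, hz⟩ := Equiv.Perm.exists_fixed_point_of_prime hrZ hσr
    exact ⟨z.1, z.2.2, congrArg Subtype.val hz⟩

theorem card_fixed_torsor [Finite G] [Finite X] (p : ℕ) [Fact p.Prime] (hU : IsPGroup p ↥U)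
    (hfree : ∀ u ∈ U, u • x0 = x0 → u = 1) {h : G} (hp : ¬ p ∣ orderOf h) (hn : ∀ u ∈ U, h * u * h⁻¹ ∈ U)
    (hpres : ∀ y ∈ subOrbit U x0, h • y ∈ subOrbit U x0) :
    Nat.card {y : X // h • y = y ∧ y ∈ subOrbit U x0} =
      Nat.card ↥(U ⊓ Subgroup.centralizer ({h} : Set G)) := by
  obtain ⟨y, hy, hfix⟩ := exists_fixed p hU hfree h hp hn hpres
  exact card_fixed_of_point hfree hn hy hfix

end Torsor

/-- Alternating sum over the subsets between `J` and the set cut out by `P`. -/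
theorem alt_sum_between {R J : Finset ℕ} (hJ : J ⊆ R) (P : ℕ → Prop) [DecidablePred P] (hP : ∀ j ∈ J, P j) :
    (∑ K ∈ R.powerset, (-1 : ℂ) ^ K.card * (if (J ⊆ K ∧ ∀ k ∈ K, P k) then 1 else 0)) =
      (-1 : ℂ) ^ J.card * (if ∀ i ∈ R, i ∉ J → ¬ P i then 1 else 0) := by
  classical
  set f : ℕ → ℂ := fun i => -(if P i then 1 else 0) with hf
  set e : ℕ → ℂ := fun i => if i ∈ J then 0 else 1 with he
  have h1 : ∀ K ∈ R.powerset, (∏ i ∈ K, f i) * ∏ i ∈ R \ K, e i =
      (-1 : ℂ) ^ K.card * (if (J ⊆ K ∧ ∀ k ∈ K, P k) then 1 else 0) := by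
    intro K hK
    rw [hf, he, Finset.prod_neg, Finset.prod_boole, mul_assoc]
    congr 1
    have h2 : (∏ i ∈ R \ K, if i ∈ J then (0 : ℂ) else 1) = if J ⊆ K then 1 else 0 := by
      split_ifs with a
      · exact Finset.prod_eq_one fun i hi => if_neg fun hiJ => (Finset.mem_sdiff.1 hi).2 (a hiJ)
      · obtain ⟨i, hiJ, hiK⟩ := Finset.not_subset.1 a
        exact Finset.prod_eq_zero (Finset.mem_sdiff.2 ⟨hJ hiJ, hiK⟩) (if_pos hiJ)
    rw [h2]
    split_ifs <;> simp_all
  rw [← Finset.sum_congr rfl h1, ← Finset.prod_add]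
  have h3 : ∏ i ∈ R, (f i + e i) = (∏ i ∈ R \ J, (f i + e i)) * ∏ i ∈ J, (f i + e i) :=
    (Finset.prod_sdiff hJ).symm
  rw [h3, Finset.prod_congr rfl (s₂ := J) (g := fun _ => (-1 : ℂ)) (fun i hi => by simp [hf, he, hP i hi, hi]),
    Finset.prod_const, mul_comm]
  congr 1
  split_ifs with a
  · refine Finset.prod_eq_one fun i hi => ?_
    obtain ⟨hiR, hiJ⟩ := Finset.mem_sdiff.1 hi
    simp [hf, he, a i hiR hiJ, hiJ]
  · push Not at a
    obtain ⟨i, hiR, hiJ, hPi⟩ := a
    exact Finset.prod_eq_zero (Finset.mem_sdiff.2 ⟨hiR, hiJ⟩) (by simp [hf, he, hPi, hiJ])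

end Cfsg.Agent.Lib.ChevStValue
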