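import Cfsg.Agent.Lib.Chev.Parabolic

/-!
Fundamental roots under Weyl group elements, and the double cosets of two parabolic subgroups
of the Weyl group.
-/

set_option autoImplicit false

namespace Cfsg.Agent.Lib.ChevStValue

open Cfsg.Lie
open Cfsg.Agent.Lib.Chev

variable {D : ChevalleyDatum} {C : Cert}

open Classical in
/-- The fundamental roots sent by `w` to fundamental roots of `J`. -/
noncomputable def imgIdx (D : ChevalleyDatum) (w : Equiv.Perm (Fin D.nroots)) (J : Finset ℕ) : Finset ℕ :=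
  (Finset.range D.rank).filter (fun k => ∃ j ∈ J, ∀ hk : D.simple k < D.nroots, (w ⟨D.simple k, hk⟩).val = D.simple j)

/-- `w` sends some fundamental root to each fundamental root of `J`. -/
def Adm (D : ChevalleyDatum) (w : Equiv.Perm (Fin D.nroots)) (J : Finset ℕ) : Prop :=
  ∀ j ∈ J, ∃ k ∈ Finset.range D.rank, ∀ hk : D.simple k < D.nroots, (w ⟨D.simple k, hk⟩).val = D.simple j

section

variable (h : Checked D C)
include h

theorem simple_inj {i j : ℕ} (hi : i < D.rank) (hj : j < D.rank) (e : D.simple i = D.simple j) : i = j := by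
  have h1 := (h.simple_tab hi hi).2.1
  have h2 := (h.simple_tab hj hi).2.1
  rw [e, h2] at h1
  simp at h1
  exact h1.symm

theorem root_eq_of_coef {r s : ℕ} (hr : r < D.nroots) (hs : s < D.nroots)
    (e : ∀ l < D.rank, coef D C l r = coef D C l s) : r = s := by
  refine h.code_inj hr hs ?_
  have e' : ∀ k ∈ Finset.range D.rank,
      (dig (code C r) k + 16) * (32 : ℤ) ^ k = (dig (code C s) k + 16) * (32 : ℤ) ^ k := by
    intro k hk
    have hk' := Finset.mem_range.1 hk
    have := e (D.rank - 1 - k) (by omega)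
    rw [coef_eq_dig, coef_eq_dig, show D.rank - 1 - (D.rank - 1 - k) = k by omega] at this
    rw [this]
  exact_mod_cast ((sum_dig _ _ (h.code_lt hr)).trans (Finset.sum_congr rfl e')).trans
    (sum_dig _ _ (h.code_lt hs)).symm

theorem ht_simple {i : ℕ} (hi : i < D.rank) : ht D C (D.simple i) = 1 := by
  rw [ht, Finset.sum_eq_single_of_mem i (Finset.mem_range.2 hi)]
  · rw [(h.simple_tab hi hi).2.1, if_pos rfl]
  · intro l hl hne
    rw [(h.simple_tab hi (Finset.mem_range.1 hl)).2.1, if_neg]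
    exact fun e => hne (by omega)

theorem ht_neg {r : ℕ} (hr : r < D.nroots) : ht D C (ng D r) = - ht D C r := by
  rw [ht, ht, ← Finset.sum_neg_distrib]
  exact Finset.sum_congr rfl fun l hl => h.coef_neg (Finset.mem_range.1 hl) hr

theorem ht_weyl {v : Equiv.Perm (Fin D.nroots)} (hv : v ∈ weyl h (Finset.range D.rank)) (r : Fin D.nroots) :
    ht D C (v r).val = ∑ l ∈ (Finset.range D.rank).attach,
      coef D C l r.val * ht D C (v (h.sroot (Finset.mem_range.1 l.2))).val := by
  conv_lhs => rw [ht, Finset.sum_congr rfl (fun j hj => h.coef_weyl hv (Finset.mem_range.1 hj) r)]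
  rw [Finset.sum_comm]
  simp only [ht, Finset.mul_sum]

/-- A positive root whose image has height `±1` while the images of the fundamental roots in its support have the
same sign is fundamental. -/
theorem simple_of_image {K : Finset ℕ} (hK : K ⊆ Finset.range D.rank) {v : Equiv.Perm (Fin D.nroots)}
    (hv : v ∈ weyl h (Finset.range D.rank)) (ε : ℤ) {b : Fin D.nroots} (hb : D.nroots / 2 ≤ b.val)
    (hs : Supp D C K b.val)
    (himg : ∀ k (hk : k ∈ K), 1 ≤ ε * ht D C (v (h.sroot (Finset.mem_range.1 (hK hk)))).val)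
    (heq : ε * ht D C (v b).val = 1) : ∃ k ∈ K, b.val = D.simple k := by
  have hsum : (∑ l ∈ (Finset.range D.rank).attach,
      coef D C l b.val * (ε * ht D C (v (h.sroot (Finset.mem_range.1 l.2))).val)) = 1 := by
    rw [← heq, ht_weyl h hv b, Finset.mul_sum]
    exact Finset.sum_congr rfl fun l _ => by ring
  have hle : ht D C b.val ≤ 1 := by
    rw [← hsum, ht, ← Finset.sum_attach (Finset.range D.rank) (fun l => coef D C l b.val)]
    refine Finset.sum_le_sum fun l _ => ?_
    have hl := Finset.mem_range.1 l.2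
    by_cases hlK : l.1 ∈ K
    · exact le_mul_of_one_le_right (h.coef_nonneg hl b.2 hb) (himg l.1 hlK)
    · rw [hs _ hl hlK, zero_mul]
  have hone : ht D C b.val = 1 := le_antisymm hle (h.ht_pos b.2 hb)
  have hnn : ∀ l ∈ Finset.range D.rank, 0 ≤ coef D C l b.val :=
    fun l hl => h.coef_nonneg (Finset.mem_range.1 hl) b.2 hb
  obtain ⟨k, hk, hpos⟩ : ∃ k ∈ Finset.range D.rank, 0 < coef D C k b.val := by
    by_contra hno
    push Not at hno
    have := Finset.sum_nonpos (f := fun l => coef D C l b.val) hno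
    rw [ht] at hone
    simp only [hone] at this
    omega
  have hk' := Finset.mem_range.1 hk
  have hkK : k ∈ K := by
    by_contra hn
    rw [hs k hk' hn] at hpos
    exact lt_irrefl _ hpos
  have hsplit := Finset.add_sum_erase (Finset.range D.rank) (fun l => coef D C l b.val) hk
  have hrest : 0 ≤ ∑ l ∈ (Finset.range D.rank).erase k, coef D C l b.val :=
    Finset.sum_nonneg fun l hl => hnn l (Finset.mem_of_mem_erase hl)
  have h1 : coef D C k b.val + ∑ l ∈ (Finset.range D.rank).erase k, coef D C l b.val = 1 := hsplit.trans hone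
  have hz := (Finset.sum_eq_zero_iff_of_nonneg fun l hl => hnn l (Finset.mem_of_mem_erase hl)).1
    (show ∑ l ∈ (Finset.range D.rank).erase k, coef D C l b.val = 0 by omega)
  refine ⟨k, hkK, root_eq_of_coef h b.2 (h.simple_lt hk') fun l hl => ?_⟩
  rw [(h.simple_tab hk' hl).2.1]
  by_cases e : l = k
  · subst e; rw [if_pos rfl]; omega
  · rw [if_neg (fun a => e (by omega))]
    exact hz l (Finset.mem_erase.2 ⟨e, Finset.mem_range.2 hl⟩)

theorem mem_imgIdx {w : Equiv.Perm (Fin D.nroots)} {J : Finset ℕ} {k : ℕ} :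
    k ∈ imgIdx D w J ↔ ∃ hk : k < D.rank, ∃ j ∈ J, (w (h.sroot hk)).val = D.simple j := by
  rw [imgIdx, Finset.mem_filter, Finset.mem_range]
  constructor
  · rintro ⟨hk, j, hj, e⟩; exact ⟨hk, j, hj, e _⟩
  · rintro ⟨hk, j, hj, e⟩; exact ⟨hk, j, hj, fun _ => e⟩

theorem imgIdx_subset (w : Equiv.Perm (Fin D.nroots)) (J : Finset ℕ) : imgIdx D w J ⊆ Finset.range D.rank :=
  fun _ hk => Finset.mem_range.2 ((mem_imgIdx h).1 hk).1

theorem adm_spec {w : Equiv.Perm (Fin D.nroots)} {J : Finset ℕ} (hw : Adm D w J) {j : ℕ} (hj : j ∈ J) :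
    ∃ k, ∃ hk : k < D.rank, k ∈ imgIdx D w J ∧ (w (h.sroot hk)).val = D.simple j := by
  obtain ⟨k, hk, e⟩ := hw j hj
  have hk' := Finset.mem_range.1 hk
  exact ⟨k, hk', (mem_imgIdx h).2 ⟨hk', j, hj, e _⟩, e _⟩

theorem asc_imgIdx {w : Equiv.Perm (Fin D.nroots)} {J : Finset ℕ} (hJ : J ⊆ Finset.range D.rank) {k : ℕ}
    (hk : k ∈ imgIdx D w J) : Asc w k := by
  obtain ⟨hk', j, hj, e⟩ := (mem_imgIdx h).1 hk
  rw [h.asc_iff hk', e]
  exact (h.simple_spec (Finset.mem_range.1 (hJ hj))).2

theorem asc_inv_of_adm {w : Equiv.Perm (Fin D.nroots)} {J : Finset ℕ} (hJ : J ⊆ Finset.range D.rank)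
    (hw : Adm D w J) : ∀ j ∈ J, Asc w⁻¹ j := by
  intro j hj
  obtain ⟨k, hk, -, e⟩ := adm_spec h hw hj
  have hjr := Finset.mem_range.1 (hJ hj)
  rw [h.asc_iff hjr]
  have e' : w (h.sroot hk) = h.sroot hjr := Fin.ext e
  rw [← e', Equiv.Perm.inv_def, Equiv.symm_apply_apply]
  exact h.sroot_pos hk

theorem card_imgIdx {w : Equiv.Perm (Fin D.nroots)} {J : Finset ℕ} (hJ : J ⊆ Finset.range D.rank)
    (hw : Adm D w J) : (imgIdx D w J).card = J.card := by
  refine Finset.card_bij (fun k hk => Classical.choose ((mem_imgIdx h).1 hk).2) ?_ ?_ ?_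
  · intro k hk; exact (Classical.choose_spec ((mem_imgIdx h).1 hk).2).1
  · intro k hk k' hk' e
    have h1 := (Classical.choose_spec ((mem_imgIdx h).1 hk).2).2
    have h2 := (Classical.choose_spec ((mem_imgIdx h).1 hk').2).2
    rw [e, ← h2] at h1
    exact simple_inj h ((mem_imgIdx h).1 hk).1 ((mem_imgIdx h).1 hk').1
      (congrArg Fin.val (w.injective (Fin.ext h1)))
  · intro j hj
    obtain ⟨k, hk, hkm, e⟩ := adm_spec h hw hj
    refine ⟨k, hkm, ?_⟩
    have h1 := Classical.choose_spec ((mem_imgIdx h).1 hkm).2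
    exact simple_inj h (Finset.mem_range.1 (hJ h1.1)) (Finset.mem_range.1 (hJ hj)) (h1.2.symm.trans e)

theorem weyl_inv_supp {w : Equiv.Perm (Fin D.nroots)} (hwW : w ∈ weyl h (Finset.range D.rank)) {J : Finset ℕ}
    (hw : Adm D w J) {r : Fin D.nroots} (hs : Supp D C J r.val) :
    Supp D C (imgIdx D w J) (w⁻¹ r).val := by
  intro l hl hlI
  rw [h.coef_weyl (inv_mem hwW) hl r]
  refine Finset.sum_eq_zero fun m _ => ?_
  by_cases hm : m.1 ∈ J
  · obtain ⟨k, hk, hkI, e⟩ := adm_spec h hw hm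
    have e' : w⁻¹ (h.sroot (Finset.mem_range.1 m.2)) = h.sroot hk := by
      rw [Equiv.Perm.inv_def, Equiv.symm_apply_eq]
      exact Fin.ext e.symm
    rw [e']
    show _ * coef D C l (D.simple k) = 0
    rw [(h.simple_tab hk hl).2.1, if_neg, mul_zero]
    intro a
    exact hlI (by rw [show l = k by omega]; exact hkI)
  · rw [hs _ (Finset.mem_range.1 m.2) hm, zero_mul]

end

variable (hh : Rooted D C)
include hh

theorem sigma_comm {w : Equiv.Perm (Fin D.nroots)} (hwW : w ∈ weyl hh.toChecked (Finset.range D.rank)) {j k : ℕ}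
    (hj : j < D.rank) (hk : k < D.rank) (e : (w (hh.toChecked.sroot hk)).val = D.simple j) :
    sigma hh.toChecked j * w = w * sigma hh.toChecked k := by
  have h := hh.toChecked
  have e' : w (h.sroot hk) = h.sroot hj := Fin.ext e
  refine hh.sigma_mul_eq hwW hk hj ?_ ?_
  · rw [h.asc_iff hk, e']; exact h.sroot_pos hj
  · rw [h.asc_iff hk, Equiv.Perm.mul_apply, e', h.sigma_sroot hj, h.ngFin_pos]
    exact fun a => a (h.sroot_pos hj)

theorem conj_weyl {w : Equiv.Perm (Fin D.nroots)} (hwW : w ∈ weyl hh.toChecked (Finset.range D.rank))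
    {J : Finset ℕ} (hJ : J ⊆ Finset.range D.rank) (hw : Adm D w J) {u : Equiv.Perm (Fin D.nroots)}
    (hu : u ∈ weyl hh.toChecked J) : w⁻¹ * u * w ∈ weyl hh.toChecked (imgIdx D w J) := by
  have h := hh.toChecked
  induction hu using Subgroup.closure_induction with
  | mem x hx =>
    obtain ⟨j, hj, rfl⟩ := hx
    obtain ⟨k, hk, hkI, e⟩ := adm_spec h hw (Finset.mem_coe.1 hj)
    rw [mul_assoc, sigma_comm hh hwW (Finset.mem_range.1 (hJ hj)) hk e, inv_mul_cancel_left]
    exact h.sigma_mem_weyl hkI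
  | one => simp [one_mem]
  | mul a b _ _ ha hb => simpa [mul_assoc] using mul_mem ha hb
  | inv a _ ha => simpa [mul_assoc] using inv_mem ha

open Classical in
/-- The intersection of `W_J` with a conjugate of `W_K` by a distinguished representative. -/
theorem kilmoyer {J K : Finset ℕ} (hJ : J ⊆ Finset.range D.rank) (hK : K ⊆ Finset.range D.rank)
    {w : Equiv.Perm (Fin D.nroots)} (hwW : w ∈ weyl hh.toChecked (Finset.range D.rank))
    (hwJ : ∀ j ∈ J, Asc w⁻¹ j) (hwK : ∀ k ∈ K, Asc w k) {u v : Equiv.Perm (Fin D.nroots)}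
    (hu : u ∈ weyl hh.toChecked J) (hv : v ∈ weyl hh.toChecked K) (e : u * w = w * v) :
    u ∈ weyl hh.toChecked (J.filter fun j => ∃ k ∈ K, ∀ hk : D.simple k < D.nroots,
      (w ⟨D.simple k, hk⟩).val = D.simple j) := by
  induction hn : (invs u).card using Nat.strong_induction_on generalizing u v with
  | _ n ih =>
    have h := hh.toChecked
    by_cases hall : ∀ j ∈ J, Asc u j
    · rw [hh.eq_one_of_asc_parabolic hJ hu hall]; exact one_mem _
    push Not at hall
    obtain ⟨j, hjJ, hd⟩ := hall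
    have hj := Finset.mem_range.1 (hJ hjJ)
    have huW := weyl_mono h hJ hu
    have hvW := weyl_mono h hK hv
    set b := w⁻¹ (h.sroot hj) with hb
    have hbpos : D.nroots / 2 ≤ b.val := (h.asc_iff hj).1 (hwJ j hjJ)
    have hwb : w b = h.sroot hj := by rw [hb, Equiv.Perm.inv_def, Equiv.apply_symm_apply]
    have hneg : ¬ D.nroots / 2 ≤ (v b).val := by
      have e1 : v b = w⁻¹ (u (h.sroot hj)) := by
        have e3 : u (w b) = w (v b) := by rw [← Equiv.Perm.mul_apply, e, Equiv.Perm.mul_apply]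
        rw [← hwb, e3, Equiv.Perm.inv_def, Equiv.symm_apply_apply]
      rw [e1]
      intro a
      rw [h.asc_iff hj] at hd
      have := h.pos_of_supp (inv_mem hwW) hwJ (h.ngFin_pos.2 hd)
        (h.supp_ngFin (h.supp_weyl hJ hu (r := h.sroot hj) (h.supp_simple hj hjJ)))
      rw [h.weyl_ng (inv_mem hwW), h.ngFin_pos] at this
      exact this a
    have hbs : Supp D C K b.val := by
      by_contra hs
      exact hneg (h.outSet_weyl hK hv (r := b) ⟨⟨hbpos, b.2⟩, hs⟩).1.1
    obtain ⟨k, hkK, ek⟩ := simple_of_image h hK hwW 1 hbpos hbs (fun k hk => by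
        rw [one_mul]
        exact h.ht_pos (Fin.isLt _) ((h.asc_iff _).1 (hwK k hk)))
      (by rw [one_mul, hwb]; exact ht_simple h hj)
    have hk := Finset.mem_range.1 (hK hkK)
    have hwk : (w (h.sroot hk)).val = D.simple j := by
      rw [show h.sroot hk = b from Fin.ext ek.symm, hwb]
      rfl
    have hjm : j ∈ J.filter fun j => ∃ k ∈ K, ∀ hk : D.simple k < D.nroots,
        (w ⟨D.simple k, hk⟩).val = D.simple j :=
      Finset.mem_filter.2 ⟨hjJ, k, hkK, fun _ => hwk⟩
    have e2 : u * sigma h j * w = w * (v * sigma h k) := by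
      rw [mul_assoc, sigma_comm hh hwW hj hk hwk, ← mul_assoc, e, mul_assoc]
    have h1 := ih _ (hn ▸ hh.invs_mul_sigma_lt huW hj hd) (h.mul_sigma_mem hu hjJ) (h.mul_sigma_mem hv hkK) e2 rfl
    have h2 := h.mul_sigma_mem h1 hjm
    rwa [mul_assoc, h.sigma_sigma, mul_one] at h2

theorem top_simple {K : Finset ℕ} (hK : K ⊆ Finset.range D.rank) {t : Equiv.Perm (Fin D.nroots)}
    (htp : IsTop hh.toChecked K t) {k : ℕ} (hkK : k ∈ K) (hk : k < D.rank) :
    ∃ l, ∃ hl : l < D.rank, l ∈ K ∧ t (hh.toChecked.sroot hk) = ngFin (hh.toChecked.sroot hl) := by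
  have h := hh.toChecked
  have htW := weyl_mono h hK htp.1
  have hneg : ∀ m (hm : m < D.rank), m ∈ K → ¬ D.nroots / 2 ≤ (t (h.sroot hm)).val :=
    fun m hm hmK a => htp.2 m hmK ((h.asc_iff hm).2 a)
  have htt : t (t (h.sroot hk)) = h.sroot hk := by
    have h2 := Equiv.ext_iff.1 (hh.top_inv hK htp) (t (h.sroot hk))
    rw [Equiv.Perm.inv_def, Equiv.symm_apply_apply] at h2
    exact h2.symm
  obtain ⟨l, hlK, el⟩ := simple_of_image h hK htW (-1) (h.ngFin_pos.2 (hneg k hk hkK))
    (h.supp_ngFin (h.supp_weyl hK htp.1 (h.supp_simple hk hkK))) (fun m hm => by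
      have := h.ht_neg_of_neg (not_le.1 (hneg m (Finset.mem_range.1 (hK hm)) hm))
      omega) (by
      rw [h.weyl_ng htW, htt]
      show -1 * ht D C (ng D (D.simple k)) = 1
      rw [ht_neg h (h.simple_lt hk), ht_simple h hk]
      rfl)
  refine ⟨l, Finset.mem_range.1 (hK hlK), hlK, ?_⟩
  rw [← ngFin_ngFin (t (h.sroot hk))]
  exact congrArg ngFin (Fin.ext el)

end Cfsg.Agent.Lib.ChevStValue
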