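import Cfsg.Agent.Lib.Chev.Levi
import Cfsg.Agent.Lib.Chev.UnipotentCount
import Cfsg.Agent.Lib.ChevStValue.Basic
import Cfsg.Agent.Lib.ChevStValue.Roots

/-!
The value of the Steinberg character at an element of order prime to `p`: if the element lies in `P_J` with `J`
minimal, only one orbit of `P_J` on the cosets of the parabolic subgroups survives the alternating sum.
-/

set_option autoImplicit false
set_option maxHeartbeats 800000

namespace Cfsg.Agent.Lib.ChevStValue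

open Cfsg.Lie
open Cfsg.Agent.Lib.Chev

variable {D : ChevalleyDatum} {C : Cert} {F : Type*} [Field F]

/-- A coset of `P_K` in the orbit of `P_J` labelled by `w`. -/
def InOrb (h : Checked D C) (J K : Finset ℕ) (w : Equiv.Perm (Fin D.nroots))
    (x : ↥(D.group F) ⧸ D.parabolicIn F K) : Prop :=
  ∃ a ∈ D.parabolicIn F J, ∃ n : ↥(D.group F), (n : GL D.Idx F) ∈ bcell h F w ∧
    (((a * n : ↥(D.group F))) : ↥(D.group F) ⧸ D.parabolicIn F K) = x

theorem mem_parabolicIn {J : Finset ℕ} {g : ↥(D.group F)} :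
    g ∈ D.parabolicIn F J ↔ (g : GL D.Idx F) ∈ D.parabolicSubgroup F (J : Set ℕ) := Iff.rfl

variable (hh : Rooted D C)
include hh

theorem inOrb_smul {J K : Finset ℕ} {w : Equiv.Perm (Fin D.nroots)} {g : ↥(D.group F)}
    (hg : g ∈ D.parabolicIn F J) {x : ↥(D.group F) ⧸ D.parabolicIn F K} (hx : InOrb hh.toChecked J K w x) :
    InOrb hh.toChecked J K w (g • x) := by
  obtain ⟨a, ha, n, hn, rfl⟩ := hx
  exact ⟨g * a, mul_mem hg ha, n, hn, by rw [MulAction.Quotient.smul_mk, smul_eq_mul, mul_assoc]⟩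

theorem inOrb_rep {J K : Finset ℕ} {w : Equiv.Perm (Fin D.nroots)} {n : ↥(D.group F)}
    (hn : (n : GL D.Idx F) ∈ bcell hh.toChecked F w) {x : ↥(D.group F) ⧸ D.parabolicIn F K}
    (hx : InOrb hh.toChecked J K w x) :
    ∃ a ∈ D.parabolicIn F J, (((a * n : ↥(D.group F))) : ↥(D.group F) ⧸ D.parabolicIn F K) = x := by
  obtain ⟨a, ha, n', hn', rfl⟩ := hx
  obtain ⟨L, hL, e⟩ := hh.toChecked.exists_word_of_weyl (bcell_mem_weyl hn)
  obtain ⟨b1, hb1, c1, hc1, e1⟩ := hh.exists_of_mem_bcell hL (e.symm ▸ hn)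
  obtain ⟨b2, hb2, c2, hc2, e2⟩ := hh.exists_of_mem_bcell hL (e.symm ▸ hn')
  have hb : b2 * b1⁻¹ ∈ D.borelSubgroup F := mul_mem hb2 (inv_mem hb1)
  have hc : c1⁻¹ * c2 ∈ D.borelSubgroup F := mul_mem (inv_mem hc1) hc2
  refine ⟨a * ⟨b2 * b1⁻¹, hh.borel_le_group hb⟩, mul_mem ha (mem_parabolicIn.2 (Subgroup.mem_sup_left hb)),
    QuotientGroup.eq.2 (mem_parabolicIn.2 (Subgroup.mem_sup_left ?_))⟩
  simp only [Subgroup.coe_mul, Subgroup.coe_inv]
  rw [e1, e2]
  convert hc using 1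
  group

theorem inOrb_exists {J K : Finset ℕ} (hJ : J ⊆ Finset.range D.rank) (hK : K ⊆ Finset.range D.rank)
    (x : ↥(D.group F) ⧸ D.parabolicIn F K) :
    ∃ w ∈ weyl hh.toChecked (Finset.range D.rank), (∀ k ∈ K, Asc w k) ∧ (∀ j ∈ J, Asc w⁻¹ j) ∧
      InOrb hh.toChecked J K w x := by
  induction x using QuotientGroup.induction_on with
  | H g =>
    obtain ⟨a, ha, q, hq, w, hwK, hwJ, hm⟩ := hh.parabolic_orbit_exists hK hJ g.2
    let a' : ↥(D.group F) := ⟨a, hh.parabolic_le_group J ha⟩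
    let q' : ↥(D.group F) := ⟨q, hh.parabolic_le_group K hq⟩
    refine ⟨w, bcell_mem_weyl hm, hwK, hwJ, a'⁻¹, inv_mem (mem_parabolicIn.2 ha), a' * g * q', hm,
      QuotientGroup.eq.2 ?_⟩
    have e : (a'⁻¹ * (a' * g * q'))⁻¹ * g = q'⁻¹ := by group
    rw [e]
    exact inv_mem (mem_parabolicIn.2 hq)

theorem inOrb_unique {J K : Finset ℕ} (hJ : J ⊆ Finset.range D.rank) (hK : K ⊆ Finset.range D.rank)
    {w w' : Equiv.Perm (Fin D.nroots)} {x : ↥(D.group F) ⧸ D.parabolicIn F K}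
    (hwK : ∀ k ∈ K, Asc w k) (hwK' : ∀ k ∈ K, Asc w' k) (hwJ : ∀ j ∈ J, Asc w⁻¹ j)
    (hwJ' : ∀ j ∈ J, Asc w'⁻¹ j) (hx : InOrb hh.toChecked J K w x) (hx' : InOrb hh.toChecked J K w' x) :
    w = w' := by
  obtain ⟨a, ha, n, hn, rfl⟩ := hx
  obtain ⟨a', ha', n', hn', e⟩ := hx'
  refine (hh.parabolic_orbit_unique hK hJ (a := ((a⁻¹ * a' : ↥(D.group F)) : GL D.Idx F))
    (mem_parabolicIn.1 (mul_mem (inv_mem ha) ha')) hn' hn hwK' hwK hwJ' hwJ ?_).symm
  have h1 := mem_parabolicIn.1 (QuotientGroup.eq.1 e.symm)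
  simpa [mul_assoc] using h1

theorem cells_eq {J K : Finset ℕ} (hJ : J ⊆ Finset.range D.rank) (hK : K ⊆ Finset.range D.rank)
    {w : Equiv.Perm (Fin D.nroots)} (hwJ : ∀ j ∈ J, Asc w⁻¹ j) (hwK : ∀ k ∈ K, Asc w k) {n p q : GL D.Idx F}
    (hn : n ∈ bcell hh.toChecked F w) (hp : p ∈ D.parabolicSubgroup F (J : Set ℕ))
    (hq : q ∈ D.parabolicSubgroup F (K : Set ℕ)) (e : p * n = n * q) :
    ∃ u ∈ weyl hh.toChecked J, ∃ v ∈ weyl hh.toChecked K,
      p ∈ bcell hh.toChecked F u ∧ q ∈ bcell hh.toChecked F v ∧ u * w = w * v := by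
  obtain ⟨u, hu, hpu⟩ := hh.exists_weyl_of_mem_parabolic hp
  obtain ⟨v, hv, hqv⟩ := hh.exists_weyl_of_mem_parabolic hq
  refine ⟨u, hu, v, hv, hpu, hqv, ?_⟩
  have h2 := hh.bcell_mul_of_asc hK hn hwK hv hqv
  have h1 := hh.bcell_inv (hh.bcell_mul_of_asc hJ (hh.bcell_inv hn) hwJ (inv_mem hu) (hh.bcell_inv hpu))
  simp only [mul_inv_rev, inv_inv] at h1
  exact hh.bcell_unique h1 (e ▸ h2)

theorem stab_absorb {J K : Finset ℕ} (hJ : J ⊆ Finset.range D.rank) (hK : K ⊆ Finset.range D.rank)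
    {w : Equiv.Perm (Fin D.nroots)} (hw : Adm D w J) (hwK : ∀ k ∈ K, Asc w k) {n p : GL D.Idx F}
    (hn : n ∈ bcell hh.toChecked F w) (hp : p ∈ D.parabolicSubgroup F (J : Set ℕ))
    (hq : n⁻¹ * p * n ∈ D.parabolicSubgroup F (K : Set ℕ)) :
    n⁻¹ * p * n ∈ D.parabolicSubgroup F (imgIdx D w J : Set ℕ) := by
  obtain ⟨u, hu, v, hv, -, hqv, e⟩ :=
    cells_eq hh hJ hK (asc_inv_of_adm hh.toChecked hJ hw) hwK hn hp hq (by group)
  have e' : v = w⁻¹ * u * w := by rw [mul_assoc, e, inv_mul_cancel_left]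
  exact hh.mem_parabolic_of_bcell (imgIdx_subset hh.toChecked w J)
    (e' ▸ conj_weyl hh (bcell_mem_weyl hn) hJ hw hu) hqv

omit hh in
theorem parabolicIn_mono {I K : Finset ℕ} (hIK : I ⊆ K) : D.parabolicIn F I ≤ D.parabolicIn F K :=
  Subgroup.comap_mono (parabolic_mono hIK)

theorem exists_mem_cell {w : Equiv.Perm (Fin D.nroots)} (hw : w ∈ weyl hh.toChecked (Finset.range D.rank)) :
    ∃ n : ↥(D.group F), (n : GL D.Idx F) ∈ bcell hh.toChecked F w := by
  obtain ⟨L, hL, e⟩ := hh.toChecked.exists_word_of_weyl hw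
  exact ⟨⟨nProd hh.toChecked F L, hh.monomial_le_group (hh.nProd_mem_monomial hL)⟩, e ▸ hh.nProd_mem_bcell hL⟩

/-- The fixed points in an orbit do not depend on the parabolic subgroup. -/
theorem card_fixed_orb {J K : Finset ℕ} (hJ : J ⊆ Finset.range D.rank) (hK : K ⊆ Finset.range D.rank)
    {w : Equiv.Perm (Fin D.nroots)} (hwW : w ∈ weyl hh.toChecked (Finset.range D.rank)) (hw : Adm D w J)
    (hIK : imgIdx D w J ⊆ K) (hwK : ∀ k ∈ K, Asc w k) {g : ↥(D.group F)} (hg : g ∈ D.parabolicIn F J) :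
    Nat.card {x : ↥(D.group F) ⧸ D.parabolicIn F K // g • x = x ∧ InOrb hh.toChecked J K w x} =
      Nat.card {x : ↥(D.group F) ⧸ D.parabolicIn F (imgIdx D w J) //
        g • x = x ∧ InOrb hh.toChecked J (imgIdx D w J) w x} := by
  obtain ⟨n, hn⟩ := exists_mem_cell (F := F) hh hwW
  obtain ⟨π, hπ⟩ : ∃ π : ↥(D.group F) ⧸ D.parabolicIn F (imgIdx D w J) → ↥(D.group F) ⧸ D.parabolicIn F K,
      ∀ a : ↥(D.group F), π (a : ↥(D.group F) ⧸ D.parabolicIn F (imgIdx D w J)) =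
        (a : ↥(D.group F) ⧸ D.parabolicIn F K) :=
    ⟨Subgroup.quotientMapOfLE (parabolicIn_mono hIK), fun _ => rfl⟩
  have hπs : ∀ (a : ↥(D.group F)) x, π (a • x) = a • π x := by
    intro a x
    induction x using QuotientGroup.induction_on with
    | H b => rw [MulAction.Quotient.smul_mk, hπ, hπ, MulAction.Quotient.smul_mk]
  have hinj : ∀ x y, InOrb hh.toChecked J (imgIdx D w J) w x → InOrb hh.toChecked J (imgIdx D w J) w y →
      π x = π y → x = y := by
    intro x y hx hy e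
    obtain ⟨a, ha, rfl⟩ := inOrb_rep hh hn hx
    obtain ⟨b, hb, rfl⟩ := inOrb_rep hh hn hy
    rw [hπ, hπ] at e
    refine QuotientGroup.eq.2 (mem_parabolicIn.2 ?_)
    have e' := mem_parabolicIn.1 (QuotientGroup.eq.1 e)
    have h1 := stab_absorb hh hJ hK hw hwK hn (mem_parabolicIn.1 (mul_mem (inv_mem ha) hb))
      (by simpa [mul_assoc] using e')
    simpa [mul_assoc] using h1
  let f : {x : ↥(D.group F) ⧸ D.parabolicIn F (imgIdx D w J) //
      g • x = x ∧ InOrb hh.toChecked J (imgIdx D w J) w x} →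
      {x : ↥(D.group F) ⧸ D.parabolicIn F K // g • x = x ∧ InOrb hh.toChecked J K w x} := fun x =>
    ⟨π x.1, by rw [← hπs, x.2.1], by
      obtain ⟨a, ha, m, hm, e⟩ := x.2.2
      exact ⟨a, ha, m, hm, by rw [← e, hπ]⟩⟩
  refine (Nat.card_congr (Equiv.ofBijective f ⟨fun x y e =>
    Subtype.ext (hinj _ _ x.2.2 y.2.2 (congrArg Subtype.val e)), fun z => ?_⟩)).symm
  obtain ⟨z, hz, a, ha, m, hm, rfl⟩ := z
  refine ⟨⟨((a * m : ↥(D.group F)) : ↥(D.group F) ⧸ D.parabolicIn F (imgIdx D w J)), ?_, a, ha, m, hm, rfl⟩,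
    Subtype.ext (hπ _)⟩
  refine hinj _ _ (inOrb_smul hh hg ⟨a, ha, m, hm, rfl⟩) ⟨a, ha, m, hm, rfl⟩ ?_
  rw [hπs, hπ]
  exact hz

open Classical in
/-- A fixed point of a minimal element only lies in orbits sending fundamental roots onto those of `J`. -/
theorem adm_of_fixed {J K : Finset ℕ} (hJ : J ⊆ Finset.range D.rank) (hK : K ⊆ Finset.range D.rank)
    {g : ↥(D.group F)} (hg : g ∈ D.parabolicIn F J)
    (hmin : ∀ J' ⊂ J, ∀ x : ↥(D.group F), x⁻¹ * g * x ∉ D.parabolicIn F J')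
    {w : Equiv.Perm (Fin D.nroots)} (hwW : w ∈ weyl hh.toChecked (Finset.range D.rank))
    (hwK : ∀ k ∈ K, Asc w k) (hwJ : ∀ j ∈ J, Asc w⁻¹ j) {x : ↥(D.group F) ⧸ D.parabolicIn F K}
    (hfix : g • x = x) (hx : InOrb hh.toChecked J K w x) : Adm D w J ∧ imgIdx D w J ⊆ K := by
  have h := hh.toChecked
  obtain ⟨a, ha, n, hn, rfl⟩ := hx
  have hp : a⁻¹ * g * a ∈ D.parabolicIn F J := mul_mem (mul_mem (inv_mem ha) hg) ha
  have hq : n⁻¹ * (a⁻¹ * g * a) * n ∈ D.parabolicIn F K := by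
    rw [MulAction.Quotient.smul_mk, smul_eq_mul] at hfix
    have h1 := inv_mem (QuotientGroup.eq.1 hfix)
    convert h1 using 1
    group
  have hq' := mem_parabolicIn.1 hq
  simp only [Subgroup.coe_mul, Subgroup.coe_inv] at hq'
  obtain ⟨u, hu, v, hv, hpu, -, e⟩ := cells_eq hh hJ hK hwJ hwK hn (mem_parabolicIn.1 hp) hq'
    (by simp only [Subgroup.coe_mul, Subgroup.coe_inv]; group)
  have hk := kilmoyer hh hJ hK hwW hwJ hwK hu hv e
  set J' := J.filter fun j => ∃ k ∈ K, ∀ hk : D.simple k < D.nroots, (w ⟨D.simple k, hk⟩).val = D.simple j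
    with hJ'
  have hsub : J' ⊆ J := Finset.filter_subset _ _
  have hJJ : J' = J := by
    by_contra hne
    exact hmin J' (Finset.ssubset_iff_subset_ne.2 ⟨hsub, hne⟩) a
      (mem_parabolicIn.2 (hh.mem_parabolic_of_bcell (hsub.trans hJ) hk hpu))
  have key : ∀ j ∈ J, ∃ k ∈ K, ∀ hk : D.simple k < D.nroots, (w ⟨D.simple k, hk⟩).val = D.simple j := by
    intro j hj
    rw [← hJJ, hJ', Finset.mem_filter] at hj
    exact hj.2
  refine ⟨fun j hj => ?_, fun k hk' => ?_⟩
  · obtain ⟨k, hkK, ek⟩ := key j hj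
    exact ⟨k, hK hkK, ek⟩
  · obtain ⟨hkr, j, hj, ek⟩ := (mem_imgIdx h).1 hk'
    obtain ⟨k', hkK', ek'⟩ := key j hj
    have hk'r := Finset.mem_range.1 (hK hkK')
    have e1 : (w (h.sroot hkr)).val = (w (h.sroot hk'r)).val := ek.trans (ek' _).symm
    rw [simple_inj h hkr hk'r (congrArg Fin.val (w.injective (Fin.ext e1)))]
    exact hkK'

/-- The fixed points on the cosets of a parabolic subgroup, orbit by orbit. -/
theorem card_fixed_eq_sum [Fintype F] {J K : Finset ℕ} (hJ : J ⊆ Finset.range D.rank)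
    (hK : K ⊆ Finset.range D.rank) {g : ↥(D.group F)} (hg : g ∈ D.parabolicIn F J)
    (hmin : ∀ J' ⊂ J, ∀ x : ↥(D.group F), x⁻¹ * g * x ∉ D.parabolicIn F J')
    [DecidablePred fun w : Equiv.Perm (Fin D.nroots) =>
      Adm D w J ∧ imgIdx D w J ⊆ K ∧ ∀ k ∈ K, Asc w k] :
    Nat.card (MulAction.fixedBy (↥(D.group F) ⧸ D.parabolicIn F K) g) =
      ∑ w ∈ (weylFinset hh.toChecked (Finset.range D.rank)).filter
          (fun w => Adm D w J ∧ imgIdx D w J ⊆ K ∧ ∀ k ∈ K, Asc w k),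
        Nat.card {x : ↥(D.group F) ⧸ D.parabolicIn F (imgIdx D w J) //
          g • x = x ∧ InOrb hh.toChecked J (imgIdx D w J) w x} := by
  classical
  set S := (weylFinset hh.toChecked (Finset.range D.rank)).filter
    (fun w => Adm D w J ∧ imgIdx D w J ⊆ K ∧ ∀ k ∈ K, Asc w k) with hS
  have hmem : ∀ w : ↥S, w.1 ∈ weyl hh.toChecked (Finset.range D.rank) ∧ Adm D w.1 J ∧ imgIdx D w.1 J ⊆ K ∧
      ∀ k ∈ K, Asc w.1 k := fun w => by
    have := w.2
    simp only [hS, Finset.mem_filter, mem_weylFinset] at this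
    exact this
  let f : (Σ w : ↥S, {x : ↥(D.group F) ⧸ D.parabolicIn F K // g • x = x ∧ InOrb hh.toChecked J K w.1 x}) →
      MulAction.fixedBy (↥(D.group F) ⧸ D.parabolicIn F K) g := fun a => ⟨a.2.1, a.2.2.1⟩
  have hb : Function.Bijective f := by
    refine ⟨?_, fun z => ?_⟩
    · rintro ⟨⟨w, hw⟩, x, hx⟩ ⟨⟨w', hw'⟩, x', hx'⟩ e
      have ex : x = x' := congrArg Subtype.val e
      subst ex
      have h1 := hmem ⟨w, hw⟩
      have h2 := hmem ⟨w', hw'⟩
      have ew : w = w' := inOrb_unique hh hJ hK h1.2.2.2 h2.2.2.2 (asc_inv_of_adm hh.toChecked hJ h1.2.1)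
        (asc_inv_of_adm hh.toChecked hJ h2.2.1) hx.2 hx'.2
      subst ew
      rfl
    · obtain ⟨x, hx⟩ := z
      obtain ⟨w, hwW, hwK, hwJ, ho⟩ := inOrb_exists hh hJ hK x
      obtain ⟨h1, h2⟩ := adm_of_fixed hh hJ hK hg hmin hwW hwK hwJ hx ho
      exact ⟨⟨⟨w, Finset.mem_filter.2 ⟨mem_weylFinset.2 hwW, h1, h2, hwK⟩⟩, x, hx, ho⟩, rfl⟩
  rw [← Nat.card_congr (Equiv.ofBijective f hb), Nat.card_sigma, ← Finset.sum_coe_sort S]
  exact Finset.sum_congr rfl fun w _ =>
    card_fixed_orb hh hJ hK (hmem w).1 (hmem w).2.1 (hmem w).2.2.1 (hmem w).2.2.2 hg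

/-- The only orbit without ascents outside the preimage of `J`. -/
theorem exists_top_rep {J : Finset ℕ} (hJ : J ⊆ Finset.range D.rank) :
    ∃ w ∈ weyl hh.toChecked (Finset.range D.rank), Adm D w J ∧
      (∀ i ∈ Finset.range D.rank, i ∉ imgIdx D w J → ¬ Asc w i) ∧
      (∀ r : Fin D.nroots, r.val ∈ outSet D C J → ¬ D.nroots / 2 ≤ (w⁻¹ r).val) ∧
      ∀ w' ∈ weyl hh.toChecked (Finset.range D.rank), Adm D w' J →
        (∀ i ∈ Finset.range D.rank, i ∉ imgIdx D w' J → ¬ Asc w' i) → w' = w := by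
  have h := hh.toChecked
  obtain ⟨w0, hw0, ha0, -⟩ := hh.exists_no_asc
  obtain ⟨t, htp⟩ := hh.exists_top hJ
  have htW := weyl_mono h hJ htp.1
  have h0top : IsTop h (Finset.range D.rank) w0 := ⟨hw0, fun j hj => ha0 j (Finset.mem_range.1 hj)⟩
  have inv0 : ∀ r, w0 (w0 r) = r := fun r => by
    have := Equiv.ext_iff.1 (hh.top_inv subset_rfl h0top) (w0 r)
    rw [Equiv.Perm.inv_def, Equiv.symm_apply_apply] at this
    exact this.symm
  have invt : ∀ r, t (t r) = r := fun r => by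
    have := Equiv.ext_iff.1 (hh.top_inv hJ htp) (t r)
    rw [Equiv.Perm.inv_def, Equiv.symm_apply_apply] at this
    exact this.symm
  have hwW : t * w0 ∈ weyl h (Finset.range D.rank) := mul_mem htW hw0
  have hA : Adm D (t * w0) J := by
    intro j hj
    have hjr := Finset.mem_range.1 (hJ hj)
    obtain ⟨l, hl, hlJ, el⟩ := top_simple hh hJ htp hj hjr
    obtain ⟨m, hm, -, em⟩ := top_simple hh subset_rfl h0top (Finset.mem_range.2 hl) hl
    refine ⟨m, Finset.mem_range.2 hm, fun hk => ?_⟩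
    show ((t * w0) (h.sroot hm)).val = (h.sroot hjr).val
    rw [← ngFin_ngFin (h.sroot hm), ← em, Equiv.Perm.mul_apply, h.weyl_ng hw0, inv0, ← el, invt]
  have hnon : ∀ i ∈ Finset.range D.rank, i ∉ imgIdx D (t * w0) J → ¬ Asc (t * w0) i := by
    intro i hi hiI
    have hir := Finset.mem_range.1 hi
    obtain ⟨l, hl, -, el⟩ := top_simple hh subset_rfl h0top hi hir
    rw [h.asc_iff hir, Equiv.Perm.mul_apply, el, h.weyl_ng htW, h.ngFin_pos, not_not]
    refine (h.outSet_weyl hJ htp.1 (r := h.sroot hl) ⟨⟨h.sroot_pos hl, Fin.isLt _⟩, fun hs => hiI ?_⟩).1.1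
    have hlJ : l ∈ J := by
      by_contra hn
      have := hs l hl hn
      rw [show (h.sroot hl).val = D.simple l from rfl, (h.simple_tab hl hl).2.1, if_pos rfl] at this
      exact one_ne_zero this
    obtain ⟨j, hj, hjJ, ej⟩ := top_simple hh hJ htp hlJ hl
    refine (mem_imgIdx h).2 ⟨hir, j, hjJ, ?_⟩
    rw [Equiv.Perm.mul_apply, el, h.weyl_ng htW, ej, ngFin_ngFin]
    rfl
  refine ⟨t * w0, hwW, hA, hnon, fun r hr hpos => ?_, fun w' hw' hA' hn' => ?_⟩
  · rw [mul_inv_rev, Equiv.Perm.mul_apply, hh.top_inv hJ htp, hh.top_inv subset_rfl h0top] at hpos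
    exact ((hh.neg_of_no_asc hw0 ha0).1 hpos) (h.outSet_weyl hJ htp.1 hr).1.1
  · have h1 : ∀ i < D.rank, ¬ Asc (t * w') i := by
      intro i hi
      rw [h.asc_iff hi, Equiv.Perm.mul_apply]
      by_cases hiI : i ∈ imgIdx D w' J
      · obtain ⟨_, j, hj, e⟩ := (mem_imgIdx h).1 hiI
        rw [show w' (h.sroot hi) = h.sroot (Finset.mem_range.1 (hJ hj)) from Fin.ext e]
        exact fun a => htp.2 j hj ((h.asc_iff _).2 a)
      · have hneg : ¬ D.nroots / 2 ≤ (w' (h.sroot hi)).val := fun a =>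
          hn' i (Finset.mem_range.2 hi) hiI ((h.asc_iff hi).2 a)
        set r := ngFin (w' (h.sroot hi)) with hr
        have hrp : D.nroots / 2 ≤ r.val := h.ngFin_pos.2 hneg
        have hns : ¬ Supp D C J r.val := fun hs => by
          have := h.pos_of_supp (inv_mem hw') (asc_inv_of_adm h hJ hA') hrp hs
          rw [hr, h.weyl_ng (inv_mem hw'), h.ngFin_pos, Equiv.Perm.inv_def, Equiv.symm_apply_apply] at this
          exact this (h.sroot_pos hi)
        have := (h.outSet_weyl hJ htp.1 (r := r) ⟨⟨hrp, r.2⟩, hns⟩).1.1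
        rw [hr, h.weyl_ng htW, h.ngFin_pos] at this
        exact this
    have e := hh.no_asc_unique (mul_mem htW hw') hw0 h1 ha0
    rw [← e]
    exact Equiv.ext fun r => by simp [Equiv.Perm.mul_apply, invt]

/-- The fixed points of the surviving orbit. -/
theorem card_top [Fintype F] (p : ℕ) [Fact p.Prime] [CharP F p] {J : Finset ℕ} (hJ : J ⊆ Finset.range D.rank)
    {w : Equiv.Perm (Fin D.nroots)} (hwW : w ∈ weyl hh.toChecked (Finset.range D.rank)) (hw : Adm D w J)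
    (hout : ∀ r : Fin D.nroots, r.val ∈ outSet D C J → ¬ D.nroots / 2 ≤ (w⁻¹ r).val) {g : ↥(D.group F)}
    (hg : g ∈ D.parabolicIn F J) (hp : ¬ p ∣ orderOf g) :
    Nat.card {x : ↥(D.group F) ⧸ D.parabolicIn F (imgIdx D w J) //
        g • x = x ∧ InOrb hh.toChecked J (imgIdx D w J) w x} =
      Nat.card ↥((rootGen D F (outSet D C J)).subgroupOf (D.group F) ⊓
        Subgroup.centralizer ({g} : Set ↥(D.group F))) ∧
    IsPGroup p ↥((rootGen D F (outSet D C J)).subgroupOf (D.group F)) := by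
  have h := hh.toChecked
  set I := imgIdx D w J with hI
  have hIr : I ⊆ Finset.range D.rank := imgIdx_subset h w J
  set U := (rootGen D F (outSet D C J)).subgroupOf (D.group F) with hUdef
  have hUB : rootGen D F (outSet D C J) ≤ D.borelSubgroup F := hh.outSet_rootGen_le.trans le_sup_left
  have hU : IsPGroup p ↥U := by
    obtain ⟨S, hS⟩ := hh.exists_sylow_posUnipotent (F := F) p
    exact (hS ▸ S.2).to_le (Subgroup.comap_mono hh.outSet_rootGen_le)
  refine ⟨?_, hU⟩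
  obtain ⟨L, hL, eL⟩ := h.exists_word_of_weyl (inv_mem hwW)
  set N := nProd hh.toChecked F L with hN
  let n : ↥(D.group F) := ⟨N⁻¹, inv_mem (hh.monomial_le_group (hh.nProd_mem_monomial hL))⟩
  have hn : (n : GL D.Idx F) ∈ bcell hh.toChecked F w := by
    have h1 := hh.bcell_inv (hh.nProd_mem_bcell (F := F) hL)
    rwa [eL, inv_inv] at h1
  let x0 : ↥(D.group F) ⧸ D.parabolicIn F I := (n : ↥(D.group F) ⧸ D.parabolicIn F I)
  have hfree : ∀ u ∈ U, u • x0 = x0 → u = 1 := by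
    intro u hu e
    have hu' : (u : GL D.Idx F) ∈ rootGen D F (outSet D C J) := hu
    have h1 : N * (u : GL D.Idx F) * N⁻¹ ∈ D.parabolicSubgroup F (I : Set ℕ) := by
      rw [show x0 = (n : ↥(D.group F) ⧸ D.parabolicIn F I) from rfl, MulAction.Quotient.smul_mk, smul_eq_mul] at e
      have h1 := mem_parabolicIn.1 (inv_mem (QuotientGroup.eq.1 e))
      simpa [n, mul_assoc] using h1
    have h2 : N * (u : GL D.Idx F) * N⁻¹ ∈ D.negUnipotent F := by
      refine h.conj_rootGen_le hL outSet_lt (fun r hr hrS t => h.xGL_mem_neg _ ?_ _) hu'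
      have := hout ⟨r, hr⟩ hrS
      rw [← eL, h.wperm_val hL] at this
      exact not_le.1 this
    obtain ⟨a, -, v, -, hau, hqv, e'⟩ := cells_eq hh hJ hIr (asc_inv_of_adm h hJ hw)
      (fun k hk => asc_imgIdx h hJ hk) hn (Subgroup.mem_sup_left (hUB hu')) h1
      (by simp only [n]; group)
    have ha1 : a = 1 := hh.bcell_unique hau (hh.mem_bcell_one.2 (hUB hu'))
    rw [ha1, one_mul, left_eq_mul] at e'
    rw [e', hh.mem_bcell_one] at hqv
    have h3 := Subgroup.mem_bot.1 (hh.borel_inf_negUnipotent.le (Subgroup.mem_inf.2 ⟨hqv, h2⟩))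
    exact Subtype.ext (conj_eq_one_iff.1 h3)
  have hLle : D.diagonalSubgroup F ⊔ rootGen D F (subSet D C J) ≤
      (D.parabolicSubgroup F (I : Set ℕ)).comap (MulAut.conj N).toMonoidHom := by
    refine sup_le (fun t ht => ?_) (fun y hy => ?_)
    · obtain ⟨t', ht', et⟩ := hh.nProd_conj_diag hL ht
      show N * t * N⁻¹ ∈ D.parabolicSubgroup F (I : Set ℕ)
      rw [hN, et, mul_inv_cancel_right]
      exact Subgroup.mem_sup_left (Subgroup.mem_sup_right ht')
    · show N * y * N⁻¹ ∈ D.parabolicSubgroup F (I : Set ℕ)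
      refine h.conj_rootGen_le (S := subSet D C J) (M := D.parabolicSubgroup F (I : Set ℕ)) hL
        (fun r hr => hr.1) (fun r hr hrS t => hh.subSet_le_parabolic hIr
        (mem_rootGen (S := subSet D C I) ⟨h.perm_lt hL hr, ?_⟩ (coe_xGL _ _ _))) hy
      have := weyl_inv_supp h hwW hw (r := ⟨r, hr⟩) hrS.2
      rw [← eL, h.wperm_val hL] at this
      exact this
  have horb : ∀ x, InOrb hh.toChecked J I w x ↔ x ∈ subOrbit U x0 := by
    intro x
    constructor
    · intro hx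
      obtain ⟨a, ha, rfl⟩ := inOrb_rep hh hn hx
      have ha' := mem_parabolicIn.1 ha
      have hnorm : D.diagonalSubgroup F ⊔ rootGen D F (subSet D C J) ≤
          Subgroup.normalizer (rootGen D F (outSet D C J) : Set (GL D.Idx F)) :=
        ((hh.levi_decomposition (F := F) hJ).1 ▸ le_sup_right :
          D.diagonalSubgroup F ⊔ rootGen D F (subSet D C J) ≤ D.parabolicSubgroup F (J : Set ℕ)).trans
          (hh.parabolic_le_normalizer hJ)
      rw [← (hh.levi_decomposition (F := F) hJ).1, ← SetLike.mem_coe,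
        Subgroup.coe_mul_of_right_le_normalizer_left _ _ hnorm, Set.mem_mul] at ha'
      obtain ⟨u, hu, l, hl, e⟩ := ha'
      refine ⟨⟨u, hh.borel_le_group (hUB hu)⟩, hu, ?_⟩
      show ((_ * n : ↥(D.group F)) : ↥(D.group F) ⧸ D.parabolicIn F I) = _
      refine QuotientGroup.eq.2 (mem_parabolicIn.2 ?_)
      simp only [Subgroup.coe_mul, Subgroup.coe_inv, n]
      rw [← e]
      have h1 : N * l * N⁻¹ ∈ D.parabolicSubgroup F (I : Set ℕ) := hLle hl
      convert h1 using 1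
      group
    · rintro ⟨u, hu, rfl⟩
      exact ⟨u, mem_parabolicIn.2 (Subgroup.mem_sup_left (hUB hu)), n, hn, rfl⟩
  have hnormg : ∀ u ∈ U, g * u * g⁻¹ ∈ U := fun u hu =>
    (Subgroup.mem_normalizer_iff.1 (hh.parabolic_le_normalizer hJ (mem_parabolicIn.1 hg)) _).1 hu
  rw [Nat.card_congr (Equiv.subtypeEquivRight fun x => and_congr_right fun _ => horb x)]
  exact card_fixed_torsor p hU hfree hp hnormg fun y hy => (horb _).1 (inOrb_smul hh hg ((horb y).2 hy))

/-- The value of the Steinberg character at a minimal element of order prime to `p`. -/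
theorem steinberg_value_min [Fintype F] (p : ℕ) [Fact p.Prime] [CharP F p] {J : Finset ℕ}
    (hJ : J ⊆ Finset.range D.rank) {g : ↥(D.group F)} (hg : g ∈ D.parabolicIn F J) (hp : ¬ p ∣ orderOf g)
    (hmin : ∀ J' ⊂ J, ∀ x : ↥(D.group F), x⁻¹ * g * x ∉ D.parabolicIn F J') :
    ∃ U : Subgroup ↥(D.group F), IsPGroup p ↥U ∧
      D.steinbergCharacter F g =
        (((-1 : ℤ) ^ J.card * (Nat.card ↥(U ⊓ Subgroup.centralizer ({g} : Set ↥(D.group F))) : ℤ) : ℤ) : ℂ) := by
  classical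
  have h := hh.toChecked
  obtain ⟨w, hwW, hA, hnon, hout, huniq⟩ := exists_top_rep hh hJ
  obtain ⟨hcard, hU⟩ := card_top hh p hJ hwW hA hout hg hp
  refine ⟨_, hU, ?_⟩
  rw [← hcard]
  set N : Equiv.Perm (Fin D.nroots) → ℂ := fun v => (Nat.card {x : ↥(D.group F) ⧸ D.parabolicIn F (imgIdx D v J) //
    g • x = x ∧ InOrb hh.toChecked J (imgIdx D v J) v x} : ℂ) with hN
  have step : ∀ K ∈ (Finset.range D.rank).powerset,
      (-1 : ℂ) ^ K.card * fixedPointCharacter (D.parabolicIn F K) g =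
      ∑ v ∈ weylFinset hh.toChecked (Finset.range D.rank), (if Adm D v J then N v else 0) *
        ((-1 : ℂ) ^ K.card * (if (imgIdx D v J ⊆ K ∧ ∀ k ∈ K, Asc v k) then 1 else 0)) := by
    intro K hK
    rw [fixedPointCharacter, card_fixed_eq_sum hh hJ (Finset.mem_powerset.1 hK) hg hmin, Nat.cast_sum,
      Finset.sum_filter, Finset.mul_sum]
    refine Finset.sum_congr rfl fun v _ => ?_
    by_cases a : Adm D v J <;> by_cases b : (imgIdx D v J ⊆ K ∧ ∀ k ∈ K, Asc v k) <;>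
      simp [a, b, hN, mul_comm]
  rw [ChevalleyDatum.steinbergCharacter, Finset.sum_congr rfl step, Finset.sum_comm]
  rw [Finset.sum_congr rfl (fun v hv => by
    rw [← Finset.mul_sum, alt_sum_between (imgIdx_subset h v J) (fun k => Asc v k)
      (fun k hk => asc_imgIdx h hJ hk)])]
  rw [Finset.sum_eq_single_of_mem w (mem_weylFinset.2 hwW)]
  · rw [if_pos hA, if_pos hnon, mul_one, card_imgIdx h hJ hA, hN]
    push_cast
    ring
  · intro v hv hne
    by_cases a : Adm D v J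
    · rw [if_neg fun b => hne (huniq v (mem_weylFinset.1 hv) a b), mul_zero, mul_zero]
    · rw [if_neg a, zero_mul]

theorem steinberg_conj (x g : ↥(D.group F)) :
    D.steinbergCharacter F (x * g * x⁻¹) = D.steinbergCharacter F g := by
  simp only [ChevalleyDatum.steinbergCharacter, fixedPointCharacter, card_fixedBy_conj]

/-- The value of the Steinberg character at an element of order prime to `p`. -/
theorem steinberg_value [Fintype F] (p : ℕ) [Fact p.Prime] [CharP F p] (g : ↥(D.group F))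
    (hp : ¬ p ∣ orderOf g) :
    D.steinbergCharacter F g =
        ((p ^ (Nat.card ↥(Subgroup.centralizer ({g} : Set ↥(D.group F)))).factorization p : ℕ) : ℂ) ∨
      D.steinbergCharacter F g =
        -((p ^ (Nat.card ↥(Subgroup.centralizer ({g} : Set ↥(D.group F)))).factorization p : ℕ) : ℂ) := by
  classical
  have hpp : p.Prime := Fact.out
  set P : Finset ℕ → Prop := fun J => ∃ x : ↥(D.group F), x⁻¹ * g * x ∈ D.parabolicIn F J with hP
  have hall : P (Finset.range D.rank) := by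
    obtain ⟨w, hw⟩ := hh.exists_bcell g.2
    exact ⟨1, by simpa using mem_parabolicIn.2 (hh.mem_parabolic_of_bcell subset_rfl (bcell_mem_weyl hw) hw)⟩
  obtain ⟨J, hJm, hJmin⟩ := Finset.exists_min_image ((Finset.range D.rank).powerset.filter P) Finset.card
    ⟨_, Finset.mem_filter.2 ⟨Finset.mem_powerset.2 subset_rfl, hall⟩⟩
  rw [Finset.mem_filter, Finset.mem_powerset] at hJm
  obtain ⟨hJ, x, hx⟩ := hJm
  have hord : orderOf (x⁻¹ * g * x) = orderOf g := by simpa using (MulAut.conj x⁻¹).orderOf_eq g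
  have hmin : ∀ J' ⊂ J, ∀ y : ↥(D.group F), y⁻¹ * (x⁻¹ * g * x) * y ∉ D.parabolicIn F J' := by
    intro J' hlt y hy
    have h1 := hJmin J' (Finset.mem_filter.2 ⟨Finset.mem_powerset.2 (hlt.subset.trans hJ), x * y,
      by simpa [mul_assoc] using hy⟩)
    exact absurd (Finset.card_lt_card hlt) (not_lt.2 h1)
  obtain ⟨U, hU, hval⟩ := steinberg_value_min hh p hJ hx (hord ▸ hp) hmin
  set V := U ⊓ Subgroup.centralizer ({x⁻¹ * g * x} : Set ↥(D.group F)) with hV
  have hst : D.steinbergCharacter F g = (((-1 : ℤ) ^ J.card * (Nat.card ↥V : ℤ) : ℤ) : ℂ) := by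
    rw [← hval, ← steinberg_conj hh x (x⁻¹ * g * x)]
    congr 1
    group
  set Cg := Subgroup.centralizer ({g} : Set ↥(D.group F)) with hCg
  set a := (Nat.card ↥Cg).factorization p with ha
  obtain ⟨i, hi⟩ := IsPGroup.iff_card.1 (hU.to_le (inf_le_left : V ≤ U))
  have hle : i ≤ a := by
    have hsub : V.map (MulAut.conj x).toMonoidHom ≤ Cg := by
      rintro _ ⟨v, hv, rfl⟩
      refine Subgroup.mem_centralizer_singleton_iff.2 ?_
      have h1 := Subgroup.mem_centralizer_singleton_iff.1 (Subgroup.mem_inf.1 hv).2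
      show x * v * x⁻¹ * g = g * (x * v * x⁻¹)
      calc x * v * x⁻¹ * g = x * (v * (x⁻¹ * g * x)) * x⁻¹ := by group
        _ = x * (x⁻¹ * g * x * v) * x⁻¹ := by rw [h1]
        _ = _ := by group
    have h2 := Subgroup.card_dvd_of_le hsub
    rw [Subgroup.card_map_of_injective (MulAut.conj x).injective, hi] at h2
    exact (hpp.pow_dvd_iff_le_factorization Nat.card_pos.ne').1 h2
  have hdvd : (p ^ a : ℤ) ∣ (-1 : ℤ) ^ J.card * (Nat.card ↥V : ℤ) := by
    obtain ⟨n, ρ, -, hρ⟩ := hh.steinberg_irr (F := F)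
    obtain ⟨S⟩ : Nonempty (Sylow p ↥Cg) := inferInstance
    set Q := (S : Subgroup ↥Cg).map Cg.subtype with hQ
    have hQc : Nat.card ↥Q = p ^ a := by
      rw [hQ, Subgroup.card_map_of_injective Subtype.val_injective, S.card_eq_multiplicity]
    have hQp : IsPGroup p ↥Q := S.2.map _
    have hcomm : ∀ y ∈ Q, Commute g y := by
      rintro _ ⟨⟨y, hy⟩, -, rfl⟩
      exact (Subgroup.mem_centralizer_singleton_iff.1 hy).symm
    have := dvd_char_of_vanish ρ Q g hcomm (fun y hy hy1 => by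
      rw [hρ]
      refine hh.steinberg_vanish p _ ?_
      obtain ⟨m, hm⟩ := IsPGroup.iff_orderOf.1 hQp ⟨y, hy⟩
      rw [← Subgroup.orderOf_coe] at hm
      have hm' : orderOf y = p ^ m := hm
      have hm0 : m ≠ 0 := fun e => hy1 (orderOf_eq_one_iff.1 (by rw [hm', e, pow_zero]))
      rw [(hcomm y hy).orderOf_mul_eq_mul_orderOf_of_coprime
        (hm' ▸ (Nat.Coprime.pow_right m ((Nat.Prime.coprime_iff_not_dvd hpp).2 hp).symm)), hm']
      exact (dvd_pow_self p hm0).mul_left _) (z := (-1 : ℤ) ^ J.card * (Nat.card ↥V : ℤ)) (by rw [hρ, hst])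
    rw [hQc] at this
    exact_mod_cast this
  have hai : a ≤ i := by
    have h3 : (p ^ a : ℤ) ∣ (p ^ i : ℤ) := by
      rw [hi] at hdvd
      rcases neg_one_pow_eq_or ℤ J.card with e | e <;> rw [e] at hdvd <;> simpa using hdvd
    exact (Nat.pow_dvd_pow_iff_le_right hpp.one_lt).1 (by exact_mod_cast h3)
  rw [hst, hi, le_antisymm hle hai]
  rcases neg_one_pow_eq_or ℤ J.card with e | e <;> rw [e]
  · exact Or.inl (by push_cast; rw [one_mul])
  · exact Or.inr (by push_cast; ring)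

end Cfsg.Agent.Lib.ChevStValue
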